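import Groth.Agent.EtClosedDetectLib.Free
import Groth.Agent.EtClosedPts.Decomp
import Groth.Agent.RlimCrit.Shift
import Groth.Agent.TildeD.Adj
import Groth.Agent.EtPtsLib.SepClosedField
import Groth.Agent.FLCLib.Ops
import Groth.Agent.Unibranch.Open
import Groth.Agent.ShriekLib.CompactH0
import Groth.Prelude.Def_DCoh2
/-!
Objects of the derived category with cohomology supported at closed points are detected by hypercohomology.
-/

set_option autoImplicit false
set_option linter.style.haveILetI false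
set_option backward.isDefEq.respectTransparency false
set_option backward.isDefEq.respectTransparency.types false
set_option maxHeartbeats 1000000

universe u

open CategoryTheory CategoryTheory.Limits AlgebraicGeometry Opposite Abelian

attribute [local instance] HasDerivedCategory.standard

noncomputable section

namespace Groth.Agent.EtClosedDetectLib

open EtPtsLib

variable {K : Type u} [Field K] [IsSepClosed K] {X : Scheme.{u}} (a : X ⟶ Spec (CommRingCat.of K))
  [LocallyOfFiniteType a]

/-- The objects with affine source. -/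
def affineObjs (X : Scheme.{u}) : Set X.Etale := {V | IsAffine V.left}

omit [IsSepClosed K] in
theorem exists_affine_refine {W : X.Etale} (T : Sieve W) (hT : T ∈ X.smallEtaleTopology W) :
    ∃ (ι : Type u) (Y : ι → X.Etale) (f : ∀ i, Y i ⟶ W),
      Sieve.ofArrows Y f ∈ X.smallEtaleTopology W ∧ ∀ i, T.arrows (f i) ∧ Y i ∈ affineObjs X := by
  obtain ⟨α, R, g, rfl⟩ := T.exists_eq_ofArrows
  rw [Scheme.ofArrows_mem_smallEtaleTopology_iff] at hT
  have hw : ∀ w : W.left, ∃ b, w ∈ Set.range (g b).left := fun w =>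
    Set.mem_iUnion.1 (hT.symm ▸ Set.mem_univ w)
  choose b z hz using hw
  choose O hO hzO hle using fun w : W.left =>
    exists_isAffineOpen_mem_and_subset (x := z w) (U := ⊤) (Set.mem_univ _)
  refine ⟨W.left, fun w => EtClosedPts.restr (R (b w)) (O w),
    fun w => EtClosedPts.restrι (R (b w)) (O w) ≫ g (b w), ?_, fun w =>
      ⟨Sieve.downward_closed _ (Sieve.ofArrows_mk R g (b w)) _, hO w⟩⟩
  rw [Scheme.ofArrows_mem_smallEtaleTopology_iff]
  ext w
  simp only [Set.mem_iUnion, Set.mem_univ, iff_true]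
  exact ⟨w, ⟨z w, hzO w⟩, hz w⟩

omit [IsSepClosed K] in
theorem hB_affine (U : X.Etale) : ∃ (ι : Type u) (Y : ι → X.Etale) (f : ∀ i, Y i ⟶ U),
    Sieve.ofArrows Y f ∈ X.smallEtaleTopology U ∧ ∀ i, Y i ∈ affineObjs X := by
  obtain ⟨ι, Y, f, h, h'⟩ := exists_affine_refine ⊤ (X.smallEtaleTopology.top_mem U)
  exact ⟨ι, Y, f, h, fun i => (h' i).2⟩

omit [LocallyOfFiniteType a] in
theorem isClosed_singleton_of_lqf {V : Scheme.{u}} (g : V ⟶ X) [LocallyQuasiFinite g] (y : V)
    (h : IsClosed ({g y} : Set X)) : IsClosed ({y} : Set V) := by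
  have hc : IsClosed (g ⁻¹' {g y}) := h.preimage g.continuous
  haveI : DiscreteTopology (g ⁻¹' {g y} : Set V) :=
    (isDiscrete_iff_discreteTopology.1 (g.isDiscrete_preimage_singleton (g y)))
  have h2 := hc.isClosedEmbedding_subtypeVal.isClosedMap _
    (isClosed_discrete ({⟨y, rfl⟩} : Set (g ⁻¹' {g y} : Set V)))
  rwa [Set.image_singleton] at h2

/-- The condition that a sheaf is supported at closed points. -/
abbrev SuppClosed (F : EtCoh.Ab X) : Prop := ∀ x ∈ EtPBC.supp F, IsClosed ({x} : Set X)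

omit [IsSepClosed K] [LocallyOfFiniteType a] in
theorem suppClosed_restrTo {F : EtCoh.Ab X} (hF : SuppClosed F) (V : X.Etale) :
    SuppClosed ((EtLimLib.restrTo V).obj F) := by
  rintro y ⟨Ω, _, _, ζ, hζ, hne⟩
  haveI : LocallyQuasiFinite (EtLimLib.strMap V) := Unibranch.locallyQuasiFinite_of_etale _
  refine isClosed_singleton_of_lqf (EtLimLib.strMap V) y (hF _ ⟨Ω, inferInstance, inferInstance,
    ζ ≫ EtLimLib.strMap V, ?_, fun h0 => hne ?_⟩)
  · rw [Scheme.Hom.comp_base, TopCat.coe_comp, Set.range_comp, hζ, Set.image_singleton]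
  · exact (((h0.of_iso ((FLCLib.stalkPullIso (EtLimLib.strMap V) ζ).app F))).of_iso
      ((EtCoh.stalk ζ).mapIso ((pullIsoRestr (EtLimLib.strMap V)).app F).symm))

include a in
theorem subsingleton_ext_free {F : EtCoh.Ab X} (hF : SuppClosed F) {V : X.Etale} (hV : V ∈ affineObjs X)
    (q : ℕ) : Subsingleton (Ext.{u + 1} ((freeP X).obj V) F (q + 1)) := by
  haveI : IsAffine V.left := hV
  haveI : AlgebraicGeometry.Etale V.hom := V.prop
  haveI := LocallyOfFiniteType.isLocallyNoetherian (EtLimLib.strMap V ≫ a)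
  exact subsingleton_ext_freeP V q F fun n =>
    EtClosedPts.subsingleton_H_of_supp_closedPoints ((EtLimLib.restrTo V).obj F) (EtLimLib.strMap V ≫ a)
      (suppClosed_restrTo hF V) (n + 1) (Nat.succ_pos n)

variable (Q : DCoh.DEt X) (hQ : ∀ i, SuppClosed (DCoh.HDEt Q i))

include a hQ in
/-- Global hypercohomology is global sections of the cohomology sheaves. -/
theorem cl_bijective_const [CompactSpace X] [QuasiSeparatedSpace X] (i : ℤ) :
    Function.Bijective (RlimCrit.cl : (RlimCrit.sgl i (EtCoh.const X ℤ) ⟶ Q) → _) := by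
  haveI : IsLocallyNoetherian X := LocallyOfFiniteType.isLocallyNoetherian a
  haveI : HasProductsOfShape ℕ (DCoh.DEt X) :=
    TildeD.hasProductsOfShape_derived (KInj.hres_of_isGrothendieckAbelian _) ℕ
  haveI : HasProduct (CohCx.truncTower Q) := inferInstance
  refine RlimCrit.cl_bijective (A := EtCoh.Ab X) (EtCoh.const X ℤ) i Q ?_ fun j k hk => ?_
  · refine RlimCrit.isRlimVia_truncTower (A := EtCoh.Ab X) (isLocGen_freeP (X := X)) (affineObjs X) hB_affine Q
      fun q W _ T hT => ?_
    obtain ⟨ι, Y, f, hf, hY⟩ := exists_affine_refine (T (-q).toNat) (hT _)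
    refine ⟨ι, Y, f, hf, fun l => ⟨(-q).toNat, (hY l).1, fun n hn k hk => ?_⟩⟩
    obtain ⟨k, rfl⟩ : ∃ k', k = k' + 1 := ⟨k - 1, by omega⟩
    exact subsingleton_ext_free a (hQ _) (hY l).2 k
  · exact EtClosedPts.subsingleton_H_of_supp_closedPoints _ a (hQ j) k hk

include a in
/-- A sheaf supported at closed points without global sections is zero. -/
theorem isZero_of_top [IsLocallyNoetherian X] {F : EtCoh.Ab X} (hF : SuppClosed F)
    (htop : Subsingleton (EtCoh.sect F (EtCoh.top X))) : IsZero F := by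
  refine (isZero_iff_ab F).2 fun Ω _ _ ξ => ?_
  by_cases hx : IsClosed ({ξ default} : Set X)
  swap
  · by_contra hne
    exact hx (hF _ ⟨Ω, inferInstance, inferInstance, ξ, range_eq_singleton ξ, hne⟩)
  let x : {x : X // IsClosed ({x} : Set X)} := ⟨ξ default, hx⟩
  have hP : IsZero (EtClosedPts.part F x) := by
    let i := X.fromSpecResidueField x.1
    let P := EtClosedPts.part F x
    haveI := EtClosedPts.isIso_unit_of_supp x.1 hx (EtClosedPts.supp_part F x)
    haveI := EtClosedPts.isSepClosed_residueField a x.1 hx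
    let e := asIso ((EtCoh.pullPushAdj i).unit.app P)
    let E := (EtCoh.pull i).obj P
    have hPtop : Subsingleton (EtCoh.sect P (EtCoh.top X)) := by
      haveI : Mono (EtClosedPts.partι F x) := by unfold EtClosedPts.partι; infer_instance
      haveI : Mono ((EtClosedPts.partι F x).hom.app (op (EtCoh.top X))) :=
        inferInstanceAs (Mono (((sheafToPresheaf _ _ ⋙ (evaluation _ _).obj (op (EtCoh.top X))).map
          (EtClosedPts.partι F x))))
      exact ((AddCommGrpCat.mono_iff_injective _).1 ‹_›).subsingleton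
    have hEtop : Subsingleton (EtCoh.sect E (EtCoh.top _)) :=
      @Equiv.subsingleton _ _ ((((((sheafToPresheaf _ _ ⋙ (evaluation _ _).obj (op (EtCoh.top X))).mapIso e) ≪≫
        (E.obj.mapIso (ShriekLib.topBcIso i).op).symm).addCommGroupIsoToAddEquiv).toEquiv.symm)) hPtop
    have hE : IsZero E := (isZero_iff_ab E).2 fun Ω' _ _ ζ => AddCommGrpCat.isZero_iff_subsingleton.2
      ((germ_top_bijective (A := AddCommGrpCat.{u + 1}) ζ (topPt (X.residueField x.1) ζ)
        (exists_top_hom_field (X.residueField x.1) ζ) E.obj).2.subsingleton)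
    exact ((EtCoh.push i).map_isZero hE).of_iso e
  refine AddCommGrpCat.isZero_iff_subsingleton.2 ⟨fun p q => ?_⟩
  have key : ∀ p : (EtCoh.stalk ξ).obj F, p = 0 := fun p => by
    obtain ⟨U, l, s, rfl⟩ := (Scheme.pointSmallEtale ξ).toPresheafFiber_jointly_surjective p
    obtain ⟨c, hc⟩ := EtClosedPts.exists_part F hF s ξ l x rfl
    refine hc.symm.trans ?_
    rw [hP.eq_of_src (EtClosedPts.partι F x) 0, Functor.map_zero]
    rfl
  rw [key p, key q]

include a in
/-- Hypercohomology detects objects with cohomology supported at closed points. -/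
theorem isZero_iff [CompactSpace X] [QuasiSeparatedSpace X] (hQ : ∀ i, SuppClosed (DCoh.HDEt Q i)) :
    IsZero Q ↔ ∀ i : ℤ, Subsingleton
      ((DerivedCategory.singleFunctor (EtCoh.Ab X) 0).obj (EtCoh.const X ℤ) ⟶ (shiftFunctor (DCoh.DEt X) i).obj Q) := by
  refine ⟨fun h i => ⟨fun p q => (Functor.map_isZero _ h).eq_of_tgt p q⟩, fun h => ?_⟩
  haveI : IsLocallyNoetherian X := LocallyOfFiniteType.isLocallyNoetherian a
  have hH : ∀ i, IsZero (DCoh.HDEt Q i) := fun i => by
    haveI := h i
    haveI : Subsingleton (RlimCrit.sgl i (EtCoh.const X ℤ) ⟶ Q) :=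
      (RlimCrit.hdu (EtCoh.const X ℤ) i Q).toEquiv.subsingleton
    haveI : Subsingleton (EtCoh.const X ℤ ⟶ DCoh.HDEt Q i) :=
      (cl_bijective_const a Q hQ i).2.subsingleton
    haveI : Subsingleton (EtCoh.H X (DCoh.HDEt Q i) 0) := Ext.homEquiv₀.subsingleton
    exact isZero_of_top a (hQ i) ((Sheaf.H.equiv₀ _ (EtCore.topIsTerminal X)).symm.toEquiv.subsingleton)
  haveI : IsIso (0 : Q ⟶ Q) := by
    rw [DerivedCategory.isIso_iff]
    intro n
    exact isIso_of_source_target_iso_zero _ (hH n).isoZero (hH n).isoZero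
  exact (IsZero.iff_id_eq_zero Q).2 ((cancel_epi (0 : Q ⟶ Q)).1 (by simp))

end Groth.Agent.EtClosedDetectLib

end
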