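import Groth.Agent.RlimCrit.ClBij
import Groth.Agent.EtLimLib.RestrSect
/-!
Free abelian sheaves on the objects of the small étale site, and their extensions.
-/

set_option autoImplicit false
set_option linter.style.haveILetI false
set_option backward.isDefEq.respectTransparency false
set_option backward.isDefEq.respectTransparency.types false

universe u

open CategoryTheory CategoryTheory.Limits AlgebraicGeometry Opposite Abelian

noncomputable section

namespace Groth.Agent.EtClosedDetectLib

open RlimCrit (IsLocGen)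

variable (X : Scheme.{u})

/-- Free abelian sheaves on presheaves of sets. -/
abbrev freeAdj :=
  (AddCommGrpCat.adj.{u + 1}.whiskerRight X.Etaleᵒᵖ).comp
    (sheafificationAdjunction X.smallEtaleTopology AddCommGrpCat.{u + 1})

/-- The free abelian sheaf on an object. -/
abbrev freeP : X.Etale ⥤ EtCoh.Ab X :=
  uliftYoneda.{u + 1} ⋙ (Functor.whiskeringRight _ _ _).obj AddCommGrpCat.free.{u + 1} ⋙
    presheafToSheaf X.smallEtaleTopology AddCommGrpCat.{u + 1}

variable {X}

/-- Sections are morphisms out of free sheaves. -/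
def freeSec (U : X.Etale) (M : EtCoh.Ab X) : ((freeP X).obj U ⟶ M) ≃ M.obj.obj (op U) :=
  ((freeAdj X).homEquiv (uliftYoneda.{u + 1}.obj U) M).trans
    (uliftYonedaEquiv.{u + 1} (F := M.obj ⋙ forget AddCommGrpCat.{u + 1}))

theorem freeSec_comp (U : X.Etale) {M N : EtCoh.Ab X} (x : (freeP X).obj U ⟶ M) (e : M ⟶ N) :
    freeSec U N (x ≫ e) = e.hom.app (op U) (freeSec U M x) := by
  simp only [freeSec, Equiv.trans_apply]
  erw [Adjunction.homEquiv_naturality_right, uliftYonedaEquiv_comp]

theorem freeSec_map {U V : X.Etale} (f : V ⟶ U) (M : EtCoh.Ab X) (x : (freeP X).obj U ⟶ M) :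
    freeSec V M ((freeP X).map f ≫ x) = M.obj.map f.op (freeSec U M x) := by
  simp only [freeSec, Equiv.trans_apply]
  erw [Adjunction.homEquiv_naturality_left]
  exact (uliftYonedaEquiv_naturality (X := op U) (Y := op V)
    ((freeAdj X).homEquiv (uliftYoneda.{u + 1}.obj U) M x) f.op).symm

theorem freeSec_zero (U : X.Etale) (M : EtCoh.Ab X) : freeSec U M 0 = 0 := by
  have h := freeSec_comp U (0 : (freeP X).obj U ⟶ M) (0 : M ⟶ M)
  rw [comp_zero] at h
  exact h.trans rfl

theorem isLocGen_freeP : IsLocGen X.smallEtaleTopology (freeP X) where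
  lift {M N} e _ {U} x := by
    haveI : Sheaf.IsLocallySurjective e :=
      (Sheaf.isLocallySurjective_iff_epi' AddCommGrpCat.{u + 1} e).2 ‹_›
    refine ⟨_, Presheaf.imageSieve_mem X.smallEtaleTopology e.hom (U := op U) (freeSec U N x), fun V f hf => ?_⟩
    obtain ⟨s, hs⟩ := hf
    refine ⟨(freeSec V M).symm s, (freeSec V N).injective ?_⟩
    rw [freeSec_comp, Equiv.apply_symm_apply, freeSec_map]
    exact hs
  sep {M U} x S hS h := by
    refine (freeSec U M).injective ?_
    rw [freeSec_zero]
    refine ((isSheaf_iff_isSheaf_of_type _ _).1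
      ((sheafCompose X.smallEtaleTopology (forget AddCommGrpCat.{u + 1})).obj M).property S hS).isSeparatedFor.ext
        fun V f hf => ?_
    show M.obj.map f.op (freeSec U M x) = M.obj.map f.op 0
    rw [← freeSec_map, h f hf, freeSec_zero, map_zero]
  det {M N} k h := by
    refine Sheaf.hom_ext ?_
    ext U s
    obtain ⟨x, hx⟩ := (freeSec U.unop M).surjective s
    have := congrArg (freeSec U.unop N) (h U.unop x)
    rw [freeSec_comp, hx, freeSec_zero] at this
    exact this

/-- Extensions of the free sheaf on an object vanish if the restriction is acyclic. -/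
theorem subsingleton_ext_freeP (V : X.Etale) : ∀ (q : ℕ) (F : EtCoh.Ab X),
    (∀ n : ℕ, Subsingleton (EtCoh.H V.left ((EtLimLib.restrTo V).obj F) (n + 1))) →
    Subsingleton (Ext.{u + 1} ((freeP X).obj V) F (q + 1)) := by
  intro q
  induction q with
  | zero =>
    intro F hF
    let S : ShortComplex (EtCoh.Ab X) := ShortComplex.mk (Injective.ι F) (cokernel.π (Injective.ι F))
      (cokernel.condition _)
    have hS : S.ShortExact := { exact := ShortComplex.exact_of_g_is_cokernel _ (cokernelIsCokernel _) }
    refine subsingleton_of_forall_eq 0 fun e => ?_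
    haveI : Injective S.X₂ := inferInstanceAs (Injective (Injective.under F))
    obtain ⟨x, hx⟩ := Ext.covariant_sequence_exact₁ _ hS e (Ext.eq_zero_of_injective _) (zero_add 1)
    obtain ⟨φ, rfl⟩ : ∃ φ, Ext.mk₀ φ = x := ⟨Ext.homEquiv₀ x, Ext.mk₀_homEquiv₀_apply x⟩
    obtain ⟨t, ht⟩ := EtLimLib.surjective_at V hS (hF 0) (freeSec V S.X₃ φ)
    have hφ : (freeSec V S.X₂).symm t ≫ S.g = φ := (freeSec V S.X₃).injective (by
      rw [freeSec_comp, Equiv.apply_symm_apply]; exact ht)
    rw [← hx, ← hφ, ← Ext.mk₀_comp_mk₀, Ext.comp_assoc_of_second_deg_zero, hS.comp_extClass, Ext.comp_zero]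
  | succ q ih =>
    intro F hF
    let S : ShortComplex (EtCoh.Ab X) := ShortComplex.mk (Injective.ι F) (cokernel.π (Injective.ι F))
      (cokernel.condition _)
    have hS : S.ShortExact := { exact := ShortComplex.exact_of_g_is_cokernel _ (cokernelIsCokernel _) }
    haveI : Injective S.X₂ := inferInstanceAs (Injective (Injective.under F))
    have hQ : ∀ n : ℕ, Subsingleton (EtCoh.H V.left ((EtLimLib.restrTo V).obj S.X₃) (n + 1)) := fun n => by
      have hr := EtLimLib.shortExact_restrTo V hS
      haveI : Injective (S.map (EtLimLib.restrTo V)).X₂ := EtLimLib.injective_restrTo V S.X₂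
      refine subsingleton_of_forall_eq 0 fun x => ?_
      haveI := hF (n + 1)
      obtain ⟨y, hy⟩ := Ext.covariant_sequence_exact₃ _ hr x rfl (@Subsingleton.elim _ (hF (n + 1)) _ _)
      rw [← hy, Ext.eq_zero_of_injective y, Ext.zero_comp]
    haveI := ih S.X₃ hQ
    refine subsingleton_of_forall_eq 0 fun e => ?_
    obtain ⟨x, hx⟩ := Ext.covariant_sequence_exact₁ _ hS e (Ext.eq_zero_of_injective _) (n₀ := q + 1) rfl
    rw [← hx, Subsingleton.elim x 0, Ext.zero_comp]

end Groth.Agent.EtClosedDetectLib

end
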